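import Cfsg.Agent.H773.Pw.Spor
import Cfsg.Agent.H305.SepJ1
import Cfsg.Agent.H715.Fpr.J2
import Cfsg.Agent.H724.IMJThree

/-!
# S2454: the rows of `J₁`, `J₂`, `J₃` (task 3448)
-/

set_option autoImplicit false

namespace Cfsg.Agent.H486.Pw

open Cfsg Subgroup Cfsg.Agent.H514.DP Cfsg.Agent.H773.Pw

universe v

theorem cent_zpowers {K : Type*} [Group K] (y : K) :
    centralizer ((zpowers y : Subgroup K) : Set K) = centralizer ({y} : Set K) :=
  H305.SepJ1.cent_zpowers y

/-- the criterion with the orders of the centralizer and of the normalizer of `⟨y⟩`, `y` of prime order -/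
theorem pw_cn {K : Type v} [Group K] [Finite K] [IsSimpleGroup K] (hna : ¬ ∀ a b : K, a * b = b * a) {l c n : ℕ}
    (hl : l.Prime) {y : K} (hy : orderOf y = l) (hc : Nat.card (centralizer ((zpowers y : Subgroup K) : Set K)) = c)
    (hn : Nat.card (normalizer ((zpowers y : Subgroup K) : Set K)) = n) {p : ℕ} (hp : p.Prime) (t : ℕ)
    (hd : n = p * t * c) (hc0 : 0 < c) {D k : ℕ} (hD : MinDeg K D) (hk : 3 ≤ k) (hC : (c - 1) ^ k < D ^ (2 * k - 4))
    (hN : 2 * k ≤ 70) : PW p 70 K := by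
  refine pw_of_norm hna hp hl hy ?_ hD (c := c) ?_ hk hC hN
  · have h1 := Subgroup.relIndex_mul_relIndex ⊥ (centralizer ((zpowers y : Subgroup K) : Set K))
      (normalizer ((zpowers y : Subgroup K) : Set K)) bot_le (centralizer_le_normalizer _)
    rw [Subgroup.relIndex_bot_left, Subgroup.relIndex_bot_left, hc, hn, hd, mul_comm (p * t) c] at h1
    have h2 := Nat.eq_of_mul_eq_mul_left hc0 h1
    exact ⟨t, h2⟩
  · rw [← cent_zpowers, hc]

theorem minDeg_cn {K : Type v} [Group K] [Finite K] [IsSimpleGroup K] (hna : ¬ ∀ a b : K, a * b = b * a) {l c n : ℕ}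
    (hl : l.Prime) {y : K} (hy : orderOf y = l) (hc : Nat.card (centralizer ((zpowers y : Subgroup K) : Set K)) = c)
    (hn : Nat.card (normalizer ((zpowers y : Subgroup K) : Set K)) = n) {e : ℕ} (he : e * c ≤ n) : MinDeg K e :=
  minDeg_of_norm hna hl hy (by rw [hc, hn]; exact he)

/-! ### `J₁` -/

theorem pw_J1 {p : ℕ} (hp : p.Prime) (hd : p ∣ Nat.card Spor.J1) : PW p 70 Spor.J1 := by
  have := H305.SepJ1.fin
  have := H305.SepJ1.simple
  have hna := H305.SepJ1.na
  have hcard : Nat.card Spor.J1 = 175560 := H305.SepJ1.card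
  have e7 : ∃ y : Spor.J1, orderOf y = 7 := exists_order (by norm_num) (by rw [hcard]; norm_num)
  have e11 : ∃ y : Spor.J1, orderOf y = 11 := exists_order (by norm_num) (by rw [hcard]; norm_num)
  have e19 : ∃ y : Spor.J1, orderOf y = 19 := exists_order (by norm_num) (by rw [hcard]; norm_num)
  obtain ⟨y7, h7⟩ := e7
  obtain ⟨y11, h11⟩ := e11
  obtain ⟨y19, h19⟩ := e19
  have c7 := H305.SepJ1.cn7 (R := zpowers y7) (by rw [Nat.card_zpowers, h7])
  have c11 := H305.SepJ1.cn11 (R := zpowers y11) (by rw [Nat.card_zpowers, h11])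
  have c19 := H305.SepJ1.cn19 (R := zpowers y19) (by rw [Nat.card_zpowers, h19])
  have hD : MinDeg Spor.J1 10 := minDeg_cn hna (by norm_num) h11 c11.1 c11.2 (by norm_num)
  have hpp : p = 2 ∨ p = 3 ∨ p = 5 ∨ p = 7 ∨ p = 11 ∨ p = 19 := by
    rw [hcard, show (175560 : ℕ) = 2 ^ 3 * (3 * (5 * (7 * (11 * 19)))) by norm_num] at hd
    rcases (Nat.Prime.dvd_mul hp).1 hd with h | hd
    · exact Or.inl ((Nat.prime_dvd_prime_iff_eq hp (by norm_num)).1 (hp.dvd_of_dvd_pow h))
    rcases (Nat.Prime.dvd_mul hp).1 hd with h | hd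
    · exact Or.inr (Or.inl ((Nat.prime_dvd_prime_iff_eq hp (by norm_num)).1 h))
    rcases (Nat.Prime.dvd_mul hp).1 hd with h | hd
    · exact Or.inr (Or.inr (Or.inl ((Nat.prime_dvd_prime_iff_eq hp (by norm_num)).1 h)))
    rcases (Nat.Prime.dvd_mul hp).1 hd with h | hd
    · exact Or.inr (Or.inr (Or.inr (Or.inl ((Nat.prime_dvd_prime_iff_eq hp (by norm_num)).1 h))))
    rcases (Nat.Prime.dvd_mul hp).1 hd with h | hd
    · exact Or.inr (Or.inr (Or.inr (Or.inr (Or.inl ((Nat.prime_dvd_prime_iff_eq hp (by norm_num)).1 h)))))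
    · exact Or.inr (Or.inr (Or.inr (Or.inr (Or.inr ((Nat.prime_dvd_prime_iff_eq hp (by norm_num)).1 hd)))))
  rcases hpp with rfl | rfl | rfl | rfl | rfl | rfl
  · exact pw_cn hna (by norm_num) h7 c7.1 c7.2 hp 3 (by norm_num) (by norm_num) hD (k := 6) (by norm_num) (by norm_num)
      (by norm_num)
  · exact pw_cn hna (by norm_num) h7 c7.1 c7.2 hp 2 (by norm_num) (by norm_num) hD (k := 6) (by norm_num) (by norm_num)
      (by norm_num)
  · exact pw_cn hna (by norm_num) h11 c11.1 c11.2 hp 2 (by norm_num) (by norm_num) hD (k := 6) (by norm_num)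
      (by norm_num) (by norm_num)
  · exact pw_of_pe hna (IsPE.of_prime h7).pe hD (c := 7) (by rw [← cent_zpowers, c7.1]) (k := 6) (by norm_num)
      (by norm_num) (by norm_num)
  · exact pw_of_pe hna (IsPE.of_prime h11).pe hD (c := 11) (by rw [← cent_zpowers, c11.1]) (k := 6) (by norm_num)
      (by norm_num) (by norm_num)
  · exact pw_of_pe hna (IsPE.of_prime h19).pe hD (c := 19) (by rw [← cent_zpowers, c19.1]) (k := 6) (by norm_num)
      (by norm_num) (by norm_num)

theorem pw_j1 {S : Type*} [Group S] [Finite S] [IsSimpleGroup S] (h : Spor.IsoJ1 S) {p : ℕ} (hp : p.Prime)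
    (hd : p ∣ Nat.card S) : PW p 70 S := by
  obtain ⟨e⟩ := h
  exact (pw_J1 hp (by rwa [Nat.card_congr e.toEquiv] at hd)).congr e.symm

/-! ### `J₂` -/

open Cfsg.Agent.H715.Fpr in
theorem pw_J2 {p : ℕ} (hp : p.Prime) (hd : p ∣ Nat.card J2.H) : PW p 70 J2.H := by
  have := J2.fin J2.iso
  have := J2.simple J2.iso
  have hcard : Nat.card J2.H = 604800 := J2.card J2.iso
  have hna : ¬ ∀ a b : J2.H, a * b = b * a := H253.TC.not_comm_of_card hcard (by norm_num) (by norm_num : Nat.Prime 7)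
    (by norm_num) (by norm_num)
  set x : J2.H := ⟨J2.px, J2.px_mem⟩ with hx
  set y : J2.H := ⟨J2.py, J2.py_mem⟩ with hy
  have h5x : orderOf x = 5 := (Subgroup.orderOf_mk _ _).trans J2.px_order
  have h5y : orderOf y = 5 := (Subgroup.orderOf_mk _ _).trans J2.py_order
  have h7 : orderOf (x * y⁻¹) = 7 := by
    rw [← Subgroup.orderOf_coe]
    exact J2.pr_order
  have c7 := J2.cn7 J2.iso (R := zpowers (x * y⁻¹)) (by rw [Nat.card_zpowers, h7])
  have hD : MinDeg J2.H 6 := minDeg_cn hna (by norm_num) h7 c7.1 c7.2 (by norm_num)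
  have hpp : p = 2 ∨ p = 3 ∨ p = 5 ∨ p = 7 := by
    rw [hcard, show (604800 : ℕ) = 2 ^ 7 * (3 ^ 3 * (5 ^ 2 * 7)) by norm_num] at hd
    rcases (Nat.Prime.dvd_mul hp).1 hd with h | hd
    · exact Or.inl ((Nat.prime_dvd_prime_iff_eq hp (by norm_num)).1 (hp.dvd_of_dvd_pow h))
    rcases (Nat.Prime.dvd_mul hp).1 hd with h | hd
    · exact Or.inr (Or.inl ((Nat.prime_dvd_prime_iff_eq hp (by norm_num)).1 (hp.dvd_of_dvd_pow h)))
    rcases (Nat.Prime.dvd_mul hp).1 hd with h | hd
    · exact Or.inr (Or.inr (Or.inl ((Nat.prime_dvd_prime_iff_eq hp (by norm_num)).1 (hp.dvd_of_dvd_pow h))))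
    · exact Or.inr (Or.inr (Or.inr ((Nat.prime_dvd_prime_iff_eq hp (by norm_num)).1 hd)))
  rcases hpp with rfl | rfl | rfl | rfl
  · exact pw_cn hna (by norm_num) h7 c7.1 c7.2 hp 3 (by norm_num) (by norm_num) hD (k := 5) (by norm_num) (by norm_num)
      (by norm_num)
  · exact pw_cn hna (by norm_num) h7 c7.1 c7.2 hp 2 (by norm_num) (by norm_num) hD (k := 5) (by norm_num) (by norm_num)
      (by norm_num)
  · have h2 : PE 5 2 (x * y⁻¹) := (IsPE.of_prime h5x).pe.mul (IsPE.of_prime h5y).inv.pe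
    exact pw_of_pe hna h2 hD (c := 7) (by rw [← cent_zpowers, c7.1]) (k := 5) (by norm_num) (by norm_num) (by norm_num)
  · exact pw_of_pe hna (IsPE.of_prime h7).pe hD (c := 7) (by rw [← cent_zpowers, c7.1]) (k := 5) (by norm_num)
      (by norm_num) (by norm_num)

open Cfsg.Agent.H715.Fpr in
theorem pw_j2 {S : Type*} [Group S] [Finite S] [IsSimpleGroup S] (h : Spor.IsoJ2 S) {p : ℕ} (hp : p.Prime)
    (hd : p ∣ Nat.card S) : PW p 70 S := by
  obtain ⟨e⟩ := h
  obtain ⟨f⟩ := J2.iso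
  have e' : S ≃* J2.H := e.trans f.symm
  exact (pw_J2 hp (by rwa [Nat.card_congr e'.toEquiv] at hd)).congr e'.symm

/-! ### `J₃` -/

theorem pw_j3 {S : Type*} [Group S] [Finite S] [IsSimpleGroup S] (h : Spor.IsoJ3 S) {p : ℕ} (hp : p.Prime)
    (hd : p ∣ Nat.card S) : PW p 70 S := by
  have hcard : Nat.card S = 50232960 := (H898.J3Cent.base h).2.1
  have hna : ¬ ∀ a b : S, a * b = b * a := H253.TC.not_comm_of_card hcard (by norm_num) (by norm_num : Nat.Prime 19)
    (by norm_num) (by norm_num)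
  have e17 : ∃ y : S, orderOf y = 17 := exists_order (by norm_num) (by rw [hcard]; norm_num)
  have e19 : ∃ y : S, orderOf y = 19 := exists_order (by norm_num) (by rw [hcard]; norm_num)
  obtain ⟨y17, h17⟩ := e17
  obtain ⟨y19, h19⟩ := e19
  obtain ⟨y5, h5, hc5⟩ := H724.IMJThree.exists_five h
  have c17 := H898.J3Cent.seventeen h h17
  have c19 := H898.J3Cent.card_nineteen h h19
  have n19 := H898.J3Cent.card_normalizer_nineteen h h19
  have hD : MinDeg S 9 := minDeg_cn hna (by norm_num) h19 (by rw [cent_zpowers, c19]) n19 (by norm_num)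
  rcases H898.J3Cent.prime_dvd_card hp (hcard ▸ hd) with rfl | rfl | rfl | rfl | rfl
  · exact pw_cn hna (by norm_num) h17 (by rw [cent_zpowers, c17.1]) c17.2 hp 4 (by norm_num) (by norm_num) hD (k := 7)
      (by norm_num) (by norm_num) (by norm_num)
  · exact pw_cn hna (by norm_num) h19 (by rw [cent_zpowers, c19]) n19 hp 3 (by norm_num) (by norm_num) hD (k := 7)
      (by norm_num) (by norm_num) (by norm_num)
  · exact pw_of_pe hna (IsPE.of_prime h5).pe hD (c := 30) hc5.le (k := 9) (by norm_num) (by norm_num) (by norm_num)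
  · exact pw_of_pe hna (IsPE.of_prime h17).pe hD (c := 17) c17.1.le (k := 7) (by norm_num) (by norm_num) (by norm_num)
  · exact pw_of_pe hna (IsPE.of_prime h19).pe hD (c := 19) c19.le (k := 7) (by norm_num) (by norm_num) (by norm_num)

end Cfsg.Agent.H486.Pw
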